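import Groth.Agent.TransporterLib.Glue

/-!
# A locus which is closed fppf locally is closed
-/

set_option autoImplicit false
set_option backward.isDefEq.respectTransparency false

noncomputable section

universe u

open CategoryTheory CategoryTheory.Limits AlgebraicGeometry
open scoped TensorProduct

namespace FppfLocusLib

/-- Factoring through a closed immersion is local for flat surjective families. -/
theorem factor_of_flat {Z P W : Scheme.{u}} (z : Z ⟶ P) [IsClosedImmersion z] (m : W ⟶ P) {I : Type*}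
    {W' : I → Scheme.{u}} (q : ∀ i, W' i ⟶ W) [∀ i, Flat (q i)] (hsurj : ∀ x : W, ∃ i, x ∈ Set.range (q i))
    (h : ∀ i, ∃ l : W' i ⟶ Z, l ≫ z = q i ≫ m) : ∃ l : W ⟶ Z, l ≫ z = m := by
  refine Groth.Agent.EssFree.exists_factor_of_local z m fun p => ?_
  obtain ⟨U, hU, hpU, -⟩ := exists_isAffineOpen_mem_and_subset (x := p) (U := ⊤) trivial
  obtain ⟨J, hJ⟩ := Groth.Agent.EssFree.exists_ideal_factor z (hU.fromSpec ≫ m)
  let κ := Σ i, {V : (W' i).Opens // IsAffineOpen V ∧ V ≤ q i ⁻¹ᵁ U}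
  letI alg : ∀ v : κ, Algebra Γ(W, U) Γ(W' v.1, v.2.1) := fun v => ((q v.1).appLE U v.2.1 v.2.2.2).hom.toAlgebra
  haveI : ∀ v : κ, Module.Flat Γ(W, U) Γ(W' v.1, v.2.1) := fun v =>
    HasRingHomProperty.appLE @Flat (q v.1) inferInstance ⟨U, hU⟩ ⟨v.2.1, v.2.2.1⟩ v.2.2.2
  have hker : J ≤ RingHom.ker (𝟙 Γ(W, U) : Γ(W, U) ⟶ Γ(W, U)).hom := fun c hc => by
    refine Groth.Agent.Transporter.eq_zero_of_family (A := Γ(W, U)) (fun v : κ => Γ(W' v.1, v.2.1))
      (fun x => ?_) fun v => ?_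
    · obtain ⟨i, w, hw⟩ := hsurj (hU.fromSpec x)
      have hwU : w ∈ q i ⁻¹ᵁ U := by
        show q i w ∈ U
        rw [hw]
        exact hU.range_fromSpec.le ⟨x, rfl⟩
      obtain ⟨V, hV, hwV, hVU⟩ := exists_isAffineOpen_mem_and_subset (x := w) (U := q i ⁻¹ᵁ U) hwU
      obtain ⟨y, hy⟩ := hV.range_fromSpec.ge hwV
      refine ⟨⟨i, V, hV, hVU⟩, y, ?_⟩
      apply hU.fromSpec.isOpenEmbedding.injective
      show (Spec.map ((q i).appLE U V hVU) ≫ hU.fromSpec) y = hU.fromSpec x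
      rw [IsAffineOpen.SpecMap_appLE_fromSpec _ hU hV hVU, Scheme.Hom.comp_apply, hy, hw]
    · obtain ⟨l, hl⟩ := h v.1
      have h1 := (hJ _ ((q v.1).appLE U v.2.1 v.2.2.2)).1 ⟨v.2.2.1.fromSpec ≫ l, by
        rw [Category.assoc, hl, ← Category.assoc (Spec.map _), IsAffineOpen.SpecMap_appLE_fromSpec _ hU v.2.2.1,
          Category.assoc]⟩
      exact h1 hc
  obtain ⟨l, hl⟩ := (hJ _ (𝟙 _)).2 hker
  rw [Spec.map_id, Category.id_comp] at hl
  exact ⟨U, hpU, hU.isoSpec.hom ≫ l, by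
    rw [Category.assoc, hl, IsAffineOpen.fromSpec, Category.assoc, Iso.hom_inv_id_assoc]⟩

/-- The ideal of the preimage of a closed subscheme of finite presentation is finitely generated. -/
theorem exists_ideal_factor_fg {Z P : Scheme.{u}} (z : Z ⟶ P) [IsClosedImmersion z] [LocallyOfFinitePresentation z]
    {C : CommRingCat.{u}} (ρ : Spec C ⟶ P) : ∃ J : Ideal C, J.FG ∧ ∀ (D : CommRingCat.{u}) (φ : C ⟶ D),
      (∃ l : Spec D ⟶ Z, l ≫ z = Spec.map φ ≫ ρ) ↔ J ≤ RingHom.ker φ.hom := by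
  obtain ⟨J₀, hJ₀⟩ := Groth.Agent.EssFree.exists_ideal_factor z ρ
  obtain ⟨J, e, he⟩ := IsClosedImmersion.Spec_iff.1 (inferInstance : IsClosedImmersion (pullback.snd z ρ))
  let mk : C ⟶ CommRingCat.of (C ⧸ J) := CommRingCat.ofHom (Ideal.Quotient.mk J)
  have hlfp : LocallyOfFinitePresentation (Spec.map mk) := by
    rw [show Spec.map mk = e.inv ≫ pullback.snd z ρ by rw [he]; exact (e.inv_hom_id_assoc _).symm]
    exact MorphismProperty.comp_mem _ _ _ inferInstance (MorphismProperty.pullback_snd _ _ inferInstance)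
  have hfg : J.FG := by
    haveI : Algebra.FinitePresentation C (C ⧸ J) :=
      RingHom.finitePresentation_algebraMap.1 ((HasRingHomProperty.Spec_iff (P := @LocallyOfFinitePresentation)).1 hlfp)
    have h1 := Algebra.FinitePresentation.ker_fG_of_surjective (Algebra.ofId C (C ⧸ J)) Ideal.Quotient.mk_surjective
    have h2 : RingHom.ker (Algebra.ofId C (C ⧸ J)).toRingHom = J := Ideal.mk_ker
    rwa [h2] at h1
  suffices J₀ = J by exact ⟨J₀, this ▸ hfg, hJ₀⟩
  refine le_antisymm ?_ ?_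
  · have h1 := (hJ₀ _ mk).1 ⟨e.inv ≫ pullback.fst z ρ, by
      rw [Category.assoc, pullback.condition, ← Category.assoc e.inv, he, e.inv_hom_id_assoc]⟩
    exact fun c hc => Ideal.Quotient.eq_zero_iff_mem.1 (h1 hc)
  · let mk₀ : C ⟶ CommRingCat.of (C ⧸ J₀) := CommRingCat.ofHom (Ideal.Quotient.mk J₀)
    obtain ⟨l, hl⟩ := (hJ₀ _ mk₀).2 fun c hc => Ideal.Quotient.eq_zero_iff_mem.2 hc
    let n := Spec.preimage (pullback.lift l (Spec.map mk₀) hl ≫ e.hom)
    have hn : mk ≫ n = mk₀ := Spec.map_injective (by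
      rw [Spec.map_comp, Spec.map_preimage, Category.assoc, ← he, pullback.lift_snd])
    intro c hc
    refine Ideal.Quotient.eq_zero_iff_mem.1 ?_
    show mk₀.hom c = 0
    rw [← hn]
    show n.hom (Ideal.Quotient.mk J c) = 0
    rw [Ideal.Quotient.eq_zero_iff_mem.2 hc, map_zero]

variable {X : Scheme.{u}} {ι : Type u} {U Z : ι → Scheme.{u}} (f : ∀ i, U i ⟶ X) (z : ∀ i, Z i ⟶ U i)

/-- The locus glued from closed subschemes of the members of a covering. -/
def pred [∀ i, IsClosedImmersion (z i)] : Groth.Agent.Transporter.LocPred X where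
  P := fun {W} t => ∀ i, ∃ a : pullback t (f i) ⟶ Z i, a ≫ z i = pullback.snd t (f i)
  comp := fun {W W'} g {t} ht i => by
    obtain ⟨a, ha⟩ := ht i
    refine ⟨pullback.lift (pullback.fst (g ≫ t) (f i) ≫ g) (pullback.snd _ _)
      (by rw [Category.assoc, pullback.condition]) ≫ a, ?_⟩
    rw [Category.assoc, ha, pullback.lift_snd]
  of_family := fun {W t I W'} q hflat hsurj h i => by
    haveI := hflat
    refine factor_of_flat (z i) (pullback.snd t (f i)) (fun l => pullback.fst (pullback.fst t (f i)) (q l))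
      (fun x => ?_) fun l => ?_
    · obtain ⟨l, w, hw⟩ := hsurj (pullback.fst t (f i) x)
      obtain ⟨y, hy, -⟩ := Scheme.Pullback.exists_preimage_pullback (f := pullback.fst t (f i)) (g := q l) x w hw.symm
      exact ⟨l, y, hy⟩
    · obtain ⟨a, ha⟩ := h l i
      refine ⟨pullback.lift (pullback.snd (pullback.fst t (f i)) (q l))
        (pullback.fst (pullback.fst t (f i)) (q l) ≫ pullback.snd t (f i))
        (by rw [← Category.assoc, ← pullback.condition, Category.assoc, Category.assoc, pullback.condition]) ≫ a, ?_⟩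
      rw [Category.assoc, ha, pullback.lift_snd]

/-- A condition on morphisms to `X`, local for a covering and closed of finite presentation on its members,
is represented by a closed subscheme of finite presentation. -/
theorem exists_closed [∀ i, IsClosedImmersion (z i)] [∀ i, LocallyOfFinitePresentation (z i)]
    [∀ i, Flat (f i)] [∀ i, LocallyOfFinitePresentation (f i)] (hsurj : ∀ x : X, ∃ i, x ∈ Set.range (f i))
    (P : ∀ {W : Scheme.{u}}, (W ⟶ X) → Prop)
    (hcomp : ∀ {W W' : Scheme.{u}} (g : W' ⟶ W) (t : W ⟶ X), P t → P (g ≫ t))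
    (hloc : ∀ {W : Scheme.{u}} (t : W ⟶ X), (∀ i, P (pullback.fst t (f i) ≫ t)) → P t)
    (hrep : ∀ i {W : Scheme.{u}} (g : W ⟶ U i), P (g ≫ f i) ↔ ∃ a : W ⟶ Z i, a ≫ z i = g) :
    ∃ (Y : Scheme.{u}) (j : Y ⟶ X), IsClosedImmersion j ∧ LocallyOfFinitePresentation j ∧
      ∀ (W : Scheme.{u}) (t : W ⟶ X), (∃ a : W ⟶ Y, a ≫ j = t) ↔ P t := by
  have hPQ : ∀ {W : Scheme.{u}} (t : W ⟶ X), (pred f z).P t ↔ P t := fun {W} t => by
    refine ⟨fun h => hloc t fun i => ?_, fun h i => ?_⟩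
    · rw [pullback.condition]
      exact (hrep i _).2 (h i)
    · refine (hrep i _).1 ?_
      rw [← pullback.condition]
      exact hcomp _ _ h
  suffices hV : ∀ V : X.affineOpens, ∃ I : Ideal Γ(X, V.1), I.FG ∧
      Groth.Agent.Transporter.HasIdeal (pred f z) V.2.fromSpec I by
    obtain ⟨Y, j, hj, hj', hYj⟩ := Groth.Agent.Transporter.exists_closed (pred f z) hV
    exact ⟨Y, j, hj, hj', fun W t => (hYj W t).trans (hPQ t)⟩
  intro V
  let κ := Σ i, {O : (U i).Opens // IsAffineOpen O ∧ O ≤ f i ⁻¹ᵁ V.1}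
  have hop : ∀ v : κ, IsOpen (f v.1 '' (v.2.1 : Set (U v.1))) := fun v =>
    (f v.1).isOpenMap _ v.2.1.2
  obtain ⟨s, hs⟩ := V.2.isCompact.elim_finite_subcover (fun v : κ => f v.1 '' (v.2.1 : Set (U v.1))) hop fun x hx => by
    obtain ⟨i, w, hw⟩ := hsurj x
    obtain ⟨O, hO, hwO, hOV⟩ := exists_isAffineOpen_mem_and_subset (x := w) (U := f i ⁻¹ᵁ V.1) (show f i w ∈ V.1 from by rw [hw]; exact hx)
    exact Set.mem_iUnion.2 ⟨⟨i, O, hO, hOV⟩, w, hwO, hw⟩
  haveI : Finite ↥s := Finset.finite_toSet s |>.to_subtype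
  refine Groth.Agent.Transporter.exists_ideal_of_family (pred f z) V.2.fromSpec (fun v : ↥s => Γ(U v.1.1, v.1.2.1))
    (fun v => (f v.1.1).appLE V.1 v.1.2.1 v.1.2.2.2) (fun v => ?_) (fun p => ?_) fun v => ?_
  · exact (HasRingHomProperty.Spec_iff (P := @Flat)).2
      (HasRingHomProperty.appLE @Flat (f v.1.1) inferInstance V ⟨v.1.2.1, v.1.2.2.1⟩ v.1.2.2.2)
  · obtain ⟨v, hv⟩ := Set.mem_iUnion.1 (hs (V.2.range_fromSpec.le ⟨p, rfl⟩))
    obtain ⟨hvs, w, hwO, hw⟩ := Set.mem_iUnion.1 hv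
    obtain ⟨y, hy⟩ := v.2.2.1.range_fromSpec.ge hwO
    refine ⟨⟨v, hvs⟩, y, ?_⟩
    apply V.2.fromSpec.isOpenEmbedding.injective
    show (Spec.map ((f v.1).appLE V.1 v.2.1 v.2.2.2) ≫ V.2.fromSpec) y = _
    rw [IsAffineOpen.SpecMap_appLE_fromSpec _ V.2 v.2.2.1, Scheme.Hom.comp_apply, hy, hw]
  · obtain ⟨J, hfg, hJ⟩ := exists_ideal_factor_fg (z v.1.1) v.1.2.2.1.fromSpec
    refine ⟨J, hfg, fun C φ => ?_⟩
    rw [hPQ, IsAffineOpen.SpecMap_appLE_fromSpec _ V.2 v.1.2.2.1, ← Category.assoc, hrep]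
    exact hJ C φ

end FppfLocusLib
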