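import Groth.Agent.FppfLocusLib.Basic
import Groth.Prelude.Def_PicLoc

/-!
# Closed unit sections of associated fppf sheaves
-/

set_option autoImplicit false
set_option backward.isDefEq.respectTransparency false

noncomputable section

universe u

open CategoryTheory CategoryTheory.Limits AlgebraicGeometry Opposite

namespace FppfLocusLib

variable {S : Scheme.{u}}

/-- A sieve covering for the fppf topology over `S` contains an fppf family indexed by the points. -/
theorem exists_family {T : Over S} (R : Sieve T) (hR : R ∈ QuotSh.J Scheme.fppfPrecoverage S T) :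
    ∃ (U : T.left → Scheme.{u}) (f : ∀ x, U x ⟶ T.left),
      (∀ x, Flat (f x) ∧ LocallyOfFinitePresentation (f x) ∧ x ∈ Set.range (f x)) ∧
      ∀ x, R.arrows (Over.homMk (f x) rfl : (Over.map T.hom).obj (Over.mk (f x)) ⟶ T) := by
  haveI : (@Flat ⊓ @LocallyOfFinitePresentation : MorphismProperty Scheme.{u}).ContainsIdentities :=
    ⟨fun X => ⟨inferInstance, inferInstance⟩⟩
  haveI : (@Flat ⊓ @LocallyOfFinitePresentation : MorphismProperty Scheme.{u}).RespectsIso :=
    MorphismProperty.RespectsIso.inf _ _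
  haveI : Scheme.fppfPrecoverage.{u}.HasIsos :=
    inferInstanceAs (Scheme.precoverage (@Flat ⊓ @LocallyOfFinitePresentation)).HasIsos
  obtain ⟨Q, hQ, hle⟩ := Precoverage.mem_toGrothendieck_iff_of_isStableUnderComposition.1 hR
  have h1 : ∀ x : T.left, ∃ (U : Scheme.{u}) (f : U ⟶ T.left), Q f ∧ x ∈ Set.range f := fun x => by
    obtain ⟨U, f, hf, hx⟩ := (Presieve.mem_comap_jointlySurjectivePrecoverage_iff Scheme.forget).1 hQ.1 x
    exact ⟨U, f, hf, hx⟩
  choose U f hf hx using h1
  exact ⟨U, f, fun x => ⟨(hQ.2 (hf x)).1, (hQ.2 (hf x)).2, hx x⟩,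
    fun x => (Sieve.overEquiv_iff R (f x)).1 (hle _ _ (hf x))⟩

/-- A family of fppf arrows generates a covering over `S`. -/
theorem family_mem {W : Over S} {ι : Type*} {V : ι → Scheme.{u}} (q : ∀ i, V i ⟶ W.left)
    (hflat : ∀ i, Flat (q i)) (hlfp : ∀ i, LocallyOfFinitePresentation (q i))
    (hsurj : ∀ x : W.left, ∃ i, x ∈ Set.range (q i)) :
    (Sieve.overEquiv W).symm (Sieve.generate (Presieve.ofArrows V q)) ∈ QuotSh.J Scheme.fppfPrecoverage S W := by
  refine GrothendieckTopology.overEquiv_symm_mem_over _ W _ (Precoverage.generate_mem_toGrothendieck ?_)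
  exact (Scheme.ofArrows_mem_precoverage_iff _).2 ⟨hsurj, fun i => ⟨hflat i, hlfp i⟩⟩

/-- Sheafifying keeps a natural section closed of finite presentation. -/
theorem sectionRepClosedFP_sheafify (F : (Over S)ᵒᵖ ⥤ Type (u + 1)) (e : ∀ T : Over S, F.obj (op T))
    (he : ∀ {T T' : Over S} (g : T' ⟶ T), F.map g.op (e T) = e T') (hF : PicLoc.SectionRepClosedFP F e) :
    PicLoc.SectionRepClosedFP ((presheafToSheaf (QuotSh.J Scheme.fppfPrecoverage S) _).obj F).obj
      (fun T => (toSheafify (QuotSh.J Scheme.fppfPrecoverage S) F).app (op T) (e T)) := by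
  let J := QuotSh.J Scheme.fppfPrecoverage S
  let G := (presheafToSheaf J (Type (u + 1))).obj F
  let η : F ⟶ G.obj := toSheafify J F
  intro T ξ
  have hsep := ((isSheaf_iff_isSheaf_of_type J G.obj).1 G.property).isSeparated
  have hnat : ∀ {A B : Over S} (g : B ⟶ A), G.obj.map g.op (η.app (op A) (e A)) = η.app (op B) (e B) :=
    fun {A B} g => by rw [← NatTrans.naturality_apply η g.op, he g]
  obtain ⟨U, f, hf, hft⟩ := exists_family _ (Presheaf.imageSieve_mem J η (U := op T) ξ)
  haveI : ∀ x, Flat (f x) := fun x => (hf x).1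
  haveI : ∀ x, LocallyOfFinitePresentation (f x) := fun x => (hf x).2.1
  choose s hs using hft
  choose Z z hzc hzf hz using fun x => hF ((Over.map T.hom).obj (Over.mk (f x))) (s x)
  haveI := hzc
  haveI := hzf
  let P : ∀ {W : Scheme.{u}}, (W ⟶ T.left) → Prop := fun {W} t =>
    G.obj.map (Over.homMk t rfl : (Over.map T.hom).obj (Over.mk t) ⟶ T).op ξ =
      η.app _ (e ((Over.map T.hom).obj (Over.mk t)))
  have hcomp : ∀ {W W' : Scheme.{u}} (g : W' ⟶ W) (t : W ⟶ T.left), P t → P (g ≫ t) := fun {W W'} g t ht => by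
    let a : (Over.map T.hom).obj (Over.mk (g ≫ t)) ⟶ (Over.map T.hom).obj (Over.mk t) :=
      Over.homMk g (Category.assoc _ _ _).symm
    show G.obj.map (a ≫ (Over.homMk t rfl : (Over.map T.hom).obj (Over.mk t) ⟶ T)).op ξ = _
    rw [op_comp, Functor.map_comp, ConcreteCategory.comp_apply, show G.obj.map _ ξ = _ from ht]
    exact hnat a
  have hlocal : ∀ {W : Scheme.{u}} (t : W ⟶ T.left) (R : Sieve ((Over.map T.hom).obj (Over.mk t))),
      R ∈ J _ → (∀ ⦃B : Over S⦄ (b : B ⟶ (Over.map T.hom).obj (Over.mk t)), R b →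
        G.obj.map (b ≫ (Over.homMk t rfl : (Over.map T.hom).obj (Over.mk t) ⟶ T)).op ξ = η.app _ (e B)) → P t :=
    fun {W} t R hR h => (hsep R hR).ext fun B b hb => by
      rw [← ConcreteCategory.comp_apply, ← Functor.map_comp, ← op_comp, h b hb]
      exact (hnat b).symm
  have hloc : ∀ {W : Scheme.{u}} (t : W ⟶ T.left), (∀ x, P (pullback.fst t (f x) ≫ t)) → P t := fun {W} t h => by
    refine hlocal t _ (family_mem (W := (Over.map T.hom).obj (Over.mk t)) (fun x => pullback.fst t (f x))
      (fun x => MorphismProperty.pullback_fst _ _ inferInstance)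
      (fun x => MorphismProperty.pullback_fst _ _ inferInstance) fun w => ?_) fun B b hb => ?_
    · obtain ⟨y, hy⟩ := (hf (t w)).2.2
      obtain ⟨v, hv, -⟩ := Scheme.Pullback.exists_preimage_pullback (f := t) (g := f (t w)) w y hy.symm
      exact ⟨t w, v, hv⟩
    · rw [Sieve.overEquiv_symm_iff] at hb
      obtain ⟨_, c, _, ⟨x⟩, hc⟩ := hb
      have hP : P (b.left ≫ t) := by rw [← hc, Category.assoc]; exact hcomp c _ (h x)
      let a : B ⟶ (Over.map T.hom).obj (Over.mk (b.left ≫ t)) :=
        Over.homMk (𝟙 _) ((Category.id_comp _).trans ((Category.assoc _ _ _).trans (Over.w b)))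
      rw [show b ≫ (Over.homMk t rfl : (Over.map T.hom).obj (Over.mk t) ⟶ T) = a ≫ Over.homMk (b.left ≫ t) rfl from
        Over.OverMorphism.ext (Category.id_comp _).symm, op_comp, Functor.map_comp, ConcreteCategory.comp_apply,
        show G.obj.map _ ξ = _ from hP]
      exact hnat a
  have hrep : ∀ x {W : Scheme.{u}} (g : W ⟶ U x), P (g ≫ f x) ↔ ∃ a : W ⟶ Z x, a ≫ z x = g := fun x {W} g => by
    let D := (Over.map T.hom).obj (Over.mk (g ≫ f x))
    let a : D ⟶ (Over.map T.hom).obj (Over.mk (f x)) := Over.homMk g (Category.assoc _ _ _).symm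
    have hξ : G.obj.map (Over.homMk (g ≫ f x) rfl : D ⟶ T).op ξ = η.app _ (F.map a.op (s x)) := by
      rw [NatTrans.naturality_apply η a.op, hs x, ← ConcreteCategory.comp_apply, ← Functor.map_comp, ← op_comp]
      rfl
    constructor
    · intro hP
      obtain ⟨V, q, hq, hqe⟩ := exists_family _
        (Presheaf.equalizerSieve_mem J η (F.map a.op (s x)) (e D) (hξ.symm.trans hP))
      haveI : ∀ w, Flat (q w) := fun w => (hq w).1
      refine factor_of_flat (z x) g q (fun w => ⟨w, (hq w).2.2⟩) fun w => ?_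
      let E := (Over.map D.hom).obj (Over.mk (q w))
      have h1 : F.map (Over.homMk (q w) rfl : E ⟶ D).op (F.map a.op (s x)) = e E := (hqe w).trans (he _)
      let T' : Over ((Over.map T.hom).obj (Over.mk (f x))).left := Over.mk (q w ≫ g)
      let E' := (Over.map ((Over.map T.hom).obj (Over.mk (f x))).hom).obj T'
      let b : E' ⟶ E := Over.homMk (𝟙 _) (show 𝟙 _ ≫ q w ≫ (g ≫ f x) ≫ T.hom = (q w ≫ g) ≫ f x ≫ T.hom by
        simp only [Category.id_comp, Category.assoc])
      refine (hz x T').1 ?_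
      rw [← he b, ← h1, ← ConcreteCategory.comp_apply, ← Functor.map_comp, ← ConcreteCategory.comp_apply,
        ← Functor.map_comp, ← op_comp, ← op_comp]
      refine congrArg (fun m => F.map m.op (s x)) (Over.OverMorphism.ext ?_)
      show q w ≫ g = (𝟙 _ ≫ q w) ≫ g
      rw [Category.id_comp]
    · intro hfac
      let T' : Over ((Over.map T.hom).obj (Over.mk (f x))).left := Over.mk g
      let E' := (Over.map ((Over.map T.hom).obj (Over.mk (f x))).hom).obj T'
      let b : D ⟶ E' := Over.homMk (𝟙 _) (show 𝟙 _ ≫ g ≫ f x ≫ T.hom = (g ≫ f x) ≫ T.hom by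
        simp only [Category.id_comp, Category.assoc])
      show G.obj.map _ ξ = _
      rw [hξ, show a = b ≫ (Over.homMk g rfl : E' ⟶ (Over.map T.hom).obj (Over.mk (f x))) from Over.OverMorphism.ext (Category.id_comp g).symm, op_comp,
        Functor.map_comp, ConcreteCategory.comp_apply]
      exact congrArg (η.app (op D)) ((congrArg (F.map b.op) ((hz x T').2 hfac)).trans (he b))
  obtain ⟨Y, j, hj, hj', hY⟩ := exists_closed f z (fun x => ⟨x, (hf x).2.2⟩) P hcomp hloc hrep
  exact ⟨Y, j, hj, hj', fun T' => (hY T'.left T'.hom).symm⟩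

end FppfLocusLib
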